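import Mathlib
import Cfsg.Prelude.Def_Classical
import Cfsg.Agent.Lib.Forms.Bridge

/-! In SU₃ in defining characteristic a nontrivial p-subgroup fixes a unique isotropic point. -/

set_option autoImplicit false

namespace Cfsg.Agent.Lib.QdP.Unitary

open Matrix

variable {p : ℕ} [Fact p.Prime] {F : Type*} [Field F] [Fintype F] [CharP F p] {q : ℕ}

local notation "V3" => Fin 3 → F

omit [Fintype F] in
theorem herm_add_left (x y z : Fin 3 → F) :
    Cfsg.hermForm 3 F q (x + y) z = Cfsg.hermForm 3 F q x z + Cfsg.hermForm 3 F q y z := by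
  simp [Cfsg.hermForm, add_mul, Finset.sum_add_distrib]

omit [Fintype F] in
theorem herm_smul_left (c : F) (x z : Fin 3 → F) :
    Cfsg.hermForm 3 F q (c • x) z = c * Cfsg.hermForm 3 F q x z := by
  simp [Cfsg.hermForm, Finset.mul_sum, mul_assoc]

/-- The functional `x ↦ h(x, v)`. -/
def herm (q : ℕ) (v : Fin 3 → F) : (Fin 3 → F) →ₗ[F] F where
  toFun x := Cfsg.hermForm 3 F q x v
  map_add' x y := herm_add_left x y v
  map_smul' c x := herm_smul_left c x v

theorem herm_apply (v x : Fin 3 → F) : herm q v x = Cfsg.hermForm 3 F q x v := rfl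

variable (hF : Fintype.card F = q ^ 2)
include hF

theorem herm_symm (u v : Fin 3 → F) : herm q v u = (herm q u v) ^ q := by
  have := (Cfsg.Agent.Lib.Forms.hermSesq_isSymm (n := 3) hF).eq u v
  simpa [herm_apply] using this.symm

theorem herm_ne_zero {v : Fin 3 → F} (hv : v ≠ 0) : herm q v ≠ 0 := by
  intro h
  apply hv
  funext i
  have := LinearMap.congr_fun h (Pi.single i 1)
  simp [herm_apply, Cfsg.hermForm, Pi.single_apply] at this
  exact this.1

theorem herm_zero_symm {u v : Fin 3 → F} (h : herm q u v = 0) : herm q v u = 0 := by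
  have hq : q ≠ 0 := by rintro rfl; simp at hF
  rw [herm_symm hF, h, zero_pow hq]

theorem finrank_ker_herm {v : Fin 3 → F} (hv : v ≠ 0) :
    Module.finrank F (LinearMap.ker (herm q v)) = 2 := by
  have := Module.Dual.finrank_ker_add_one_of_ne_zero (herm_ne_zero hF hv)
  rw [Module.finrank_fintype_fun_eq_card, Fintype.card_fin] at this
  omega

/-- Two orthogonal isotropic vectors are proportional. -/
theorem proportional {v u : Fin 3 → F} (hv : v ≠ 0) (hvv : herm q v v = 0) (huu : herm q u u = 0)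
    (hvu : herm q v u = 0) : ∃ c : F, u = c • v := by
  by_contra hc
  push Not at hc
  have huv := herm_zero_symm hF hvu
  have hli : LinearIndependent F ![v, u] := by
    rw [LinearIndependent.pair_iff' hv]
    exact fun a => (hc a).symm
  have hker : LinearMap.ker (herm q v) = LinearMap.ker (herm q u) := by
    have hu : u ≠ 0 := fun h => hc 0 (by rw [h, zero_smul])
    have hspan : ∀ w, Submodule.span F (Set.range ![v, u]) ≤ LinearMap.ker (herm q w) ↔
        herm q w v = 0 ∧ herm q w u = 0 := by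
      intro w
      rw [Submodule.span_le, Matrix.range_cons, Matrix.range_cons, Matrix.range_empty, Set.union_empty]
      constructor
      · intro h; exact ⟨h (Or.inl rfl), h (Or.inr rfl)⟩
      · rintro ⟨h1, h2⟩ x (rfl | rfl) <;> simpa
    have hd : Module.finrank F (Submodule.span F (Set.range ![v, u])) = 2 := by
      rw [finrank_span_eq_card hli, Fintype.card_fin]
    rw [← Submodule.eq_of_le_of_finrank_eq ((hspan v).2 ⟨hvv, hvu⟩) (by rw [hd, finrank_ker_herm hF hv]),
      ← Submodule.eq_of_le_of_finrank_eq ((hspan u).2 ⟨huv, huu⟩) (by rw [hd, finrank_ker_herm hF hu])]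
  obtain ⟨x₀, hx₀⟩ : ∃ x₀, herm q v x₀ = 1 := by
    obtain ⟨x, hx⟩ := DFunLike.ne_iff.1 (herm_ne_zero hF hv)
    exact ⟨(herm q v x)⁻¹ • x, by rw [map_smul, smul_eq_mul, inv_mul_cancel₀ hx]⟩
  refine hc ((herm q u x₀) ^ q) ?_
  funext i
  have hmem : Pi.single i 1 - (herm q v (Pi.single i 1)) • x₀ ∈ LinearMap.ker (herm q v) := by
    rw [LinearMap.mem_ker, map_sub, map_smul, hx₀, smul_eq_mul, mul_one, sub_self]
  rw [hker, LinearMap.mem_ker, map_sub, map_smul, smul_eq_mul, sub_eq_zero] at hmem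
  simp [herm_apply, Cfsg.hermForm, Pi.single_apply] at hmem
  have h2 := congrArg (· ^ q) hmem
  simp only [mul_pow, Cfsg.Agent.Lib.Forms.pow_q_pow_q hF] at h2
  rw [Pi.smul_apply, smul_eq_mul, herm_apply, Cfsg.hermForm, h2, mul_comm]

omit hF
variable {g : Cfsg.SU 3 F q}

/-- The action on vectors. -/
def act (g : Cfsg.SU 3 F q) (v : Fin 3 → F) : Fin 3 → F := (g.1.1 : Matrix (Fin 3) (Fin 3) F) *ᵥ v

omit [Fintype F] in
theorem act_one (v : Fin 3 → F) : act (1 : Cfsg.SU 3 F q) v = v := by simp [act]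

omit [Fintype F] in
theorem act_mul (g h : Cfsg.SU 3 F q) (v : Fin 3 → F) : act (g * h) v = act g (act h v) := by
  simp [act, Matrix.mulVec_mulVec]

omit [Fintype F] in
theorem act_add (g : Cfsg.SU 3 F q) (u v : Fin 3 → F) : act g (u + v) = act g u + act g v := by
  simp [act, Matrix.mulVec_add]

omit [Fintype F] in
theorem act_smul (g : Cfsg.SU 3 F q) (c : F) (v : Fin 3 → F) : act g (c • v) = c • act g v := by
  simp [act, Matrix.mulVec_smul]

omit [Fintype F] in
theorem act_ext (g : Cfsg.SU 3 F q) (h : ∀ v, act g v = v) : g = 1 := by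
  apply Subtype.ext; apply Subtype.ext
  exact Matrix.ext_iff_mulVec.2 fun v => by simpa [act] using h v

omit [Fintype F] in
theorem herm_act (g : Cfsg.SU 3 F q) (u v : Fin 3 → F) :
    herm q (act g v) (act g u) = herm q v u := g.2 u v

/-- Unipotent elements act trivially on invariant lines, also modulo a fixed vector. -/
theorem unipotent_line {k : ℕ} (hg : g ^ p ^ k = 1) {w v : Fin 3 → F} (hw : ∀ a : F, w ≠ a • v)
    (hv : act g v = v) {c a : F} (h : act g w = c • w + a • v) : c = 1 := by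
  have hind : ∀ n, ∃ b : F, act (g ^ n) w = c ^ n • w + b • v := by
    intro n
    induction n with
    | zero => exact ⟨0, by simp [act_one]⟩
    | succ n ih =>
      obtain ⟨b, hb⟩ := ih
      refine ⟨c ^ n * a + b, ?_⟩
      rw [pow_succ', act_mul, hb, act_add, act_smul, act_smul, h, hv, smul_add, smul_smul, smul_smul,
        ← pow_succ, add_smul, add_assoc]
  obtain ⟨b, hb⟩ := hind (p ^ k)
  rw [hg, act_one] at hb
  have hc : c ^ p ^ k = 1 := by
    by_contra hc
    apply hw (b / (1 - c ^ p ^ k))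
    have hne : 1 - c ^ p ^ k ≠ 0 := sub_ne_zero.2 (Ne.symm hc)
    rw [div_eq_inv_mul, ← smul_smul, eq_inv_smul_iff₀ hne, sub_smul, one_smul, sub_eq_iff_eq_add, add_comm]
    exact hb
  have h0 : (c - 1) ^ p ^ k = 0 := by rw [sub_pow_char_pow, hc, one_pow, sub_self]
  exact sub_eq_zero.1 (eq_zero_of_pow_eq_zero h0)

include hF

/-- An element fixing the two spanning vectors of a nondegenerate plane is trivial if unipotent. -/
theorem eq_one_of_fix_pair {k : ℕ} (hg : g ^ p ^ k = 1) {v u : Fin 3 → F} (hv : act g v = v) (hu : act g u = u)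
    (hsplit : ∀ x, ∃ a b : F, herm q v (x - (a • v + b • u)) = 0 ∧ herm q u (x - (a • v + b • u)) = 0)
    (hL : Function.Surjective ((herm q v).prod (herm q u))) : g = 1 := by
  apply act_ext
  intro x
  obtain ⟨a, b, h1, h2⟩ := hsplit x
  set r := x - (a • v + b • u) with hr
  have hx : x = r + (a • v + b • u) := by rw [hr]; abel
  have hker : Module.finrank F (LinearMap.ker ((herm q v).prod (herm q u))) = 1 := by
    have := LinearMap.finrank_range_add_finrank_ker ((herm q v).prod (herm q u))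
    rw [LinearMap.range_eq_top.2 hL, finrank_top, Module.finrank_prod, Module.finrank_self,
      Module.finrank_fintype_fun_eq_card, Fintype.card_fin] at this
    omega
  have hr' : act g r = r := by
    rcases eq_or_ne r 0 with h0 | h0
    · rw [h0]; simp [act]
    have hmem : r ∈ LinearMap.ker ((herm q v).prod (herm q u)) := by simp [h1, h2]
    have hgmem : act g r ∈ LinearMap.ker ((herm q v).prod (herm q u)) := by
      have e1 := herm_act g r v
      have e2 := herm_act g r u
      rw [hv] at e1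
      rw [hu] at e2
      simp [e1, e2, h1, h2]
    obtain ⟨c, hc⟩ := exists_smul_eq_of_finrank_eq_one hker
      (show (⟨r, hmem⟩ : LinearMap.ker ((herm q v).prod (herm q u))) ≠ 0 by simpa using h0) ⟨_, hgmem⟩
    have hc' : c • r = act g r := congrArg Subtype.val hc
    have hc1 := unipotent_line (p := p) hg (w := r) (v := 0) (fun a => by simpa using h0) (by simp [act])
      (c := c) (a := 0) (by simp [hc'])
    rw [← hc', hc1, one_smul]
  rw [hx, act_add, act_add, act_smul, act_smul, hv, hu, hr']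

/-- A unipotent element fixing two independent isotropic vectors is trivial. -/
theorem eq_one_of_fix_isotropic {k : ℕ} (hg : g ^ p ^ k = 1) {v u : Fin 3 → F} (hv0 : v ≠ 0)
    (hvv : herm q v v = 0) (huu : herm q u u = 0) (hind : ∀ c : F, u ≠ c • v)
    (hv : act g v = v) (hu : act g u = u) : g = 1 := by
  have hz : herm q v u ≠ 0 := fun h => by
    obtain ⟨c, hc⟩ := proportional hF hv0 hvv huu h
    exact hind c hc
  have hz' : herm q u v ≠ 0 := fun h => hz (herm_zero_symm hF h)
  refine eq_one_of_fix_pair hF hg hv hu (fun x => ⟨herm q u x / herm q u v, herm q v x / herm q v u, ?_, ?_⟩) ?_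
  · simp [hvv, hz]
  · simp [huu, hz']
  · rintro ⟨a, b⟩
    exact ⟨(b / herm q u v) • v + (a / herm q v u) • u, by simp [hvv, huu, hz, hz']⟩

/-- A nontrivial p-subgroup of SU₃ fixes an isotropic vector. -/
theorem exists_isotropic_fixed (P : Subgroup (Cfsg.SU 3 F q)) (hP : IsPGroup p P) (hne : P ≠ ⊥) :
    ∃ v : Fin 3 → F, v ≠ 0 ∧ herm q v v = 0 ∧ ∀ g ∈ P, act g v = v := by
  classical
  letI : MulAction P (Fin 3 → F) :=
    { smul := fun g v => act (g : Cfsg.SU 3 F q) v
      one_smul := fun v => act_one v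
      mul_smul := fun g h v => act_mul (g : Cfsg.SU 3 F q) h v }
  have hdvd : ∀ W : Submodule F (Fin 3 → F), W ≠ ⊥ → p ∣ Nat.card W := by
    intro W hW
    obtain ⟨n, -, hn⟩ := FiniteField.card F p
    rw [Module.natCard_eq_pow_finrank (K := F), Nat.card_eq_fintype_card, hn, ← pow_mul]
    exact dvd_pow_self p (Nat.mul_ne_zero n.pos.ne' (by rw [Ne, Submodule.finrank_eq_zero]; exact hW))
  have htop : p ∣ Nat.card (Fin 3 → F) := by
    have := hdvd ⊤ top_ne_bot
    rwa [Nat.card_congr Submodule.topEquiv.toEquiv] at this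
  obtain ⟨v, hv, hv0⟩ := hP.exists_fixed_point_of_prime_dvd_card_of_fixed_point (Fin 3 → F) htop
    (a := 0) (fun g => show act (g : Cfsg.SU 3 F q) 0 = 0 from Matrix.mulVec_zero _)
  have hfv : ∀ g ∈ P, act g v = v := fun g hg => hv ⟨g, hg⟩
  by_cases hvv : herm q v v = 0
  · exact ⟨v, hv0.symm, hvv, hfv⟩
  let W := LinearMap.ker (herm q v)
  letI : MulAction P W :=
    { smul := fun g w => ⟨act (g : Cfsg.SU 3 F q) w.1, by
        have e := herm_act (g : Cfsg.SU 3 F q) w.1 v
        rw [hfv g g.2] at e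
        exact LinearMap.mem_ker.2 (e.trans w.2)⟩
      one_smul := fun w => Subtype.ext (act_one _)
      mul_smul := fun g h w => Subtype.ext (act_mul (g : Cfsg.SU 3 F q) h _) }
  have hWne : W ≠ ⊥ := fun h => by
    have := finrank_ker_herm hF hv0.symm
    rw [show LinearMap.ker (herm q v) = ⊥ from h, finrank_bot] at this
    omega
  obtain ⟨u, hu, hu0⟩ := hP.exists_fixed_point_of_prime_dvd_card_of_fixed_point W (hdvd W hWne)
    (a := 0) (fun g => Subtype.ext (show act (g : Cfsg.SU 3 F q) 0 = 0 from Matrix.mulVec_zero _))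
  have hu0' : (u : Fin 3 → F) ≠ 0 := fun h => hu0.symm (Subtype.ext h)
  have hfu : ∀ g ∈ P, act g u = (u : Fin 3 → F) := fun g hg => congrArg Subtype.val (hu ⟨g, hg⟩)
  have hvu : herm q v u = 0 := u.2
  have huv := herm_zero_symm hF hvu
  by_cases huu : herm q (u : Fin 3 → F) u = 0
  · exact ⟨u, hu0', huu, hfu⟩
  exfalso
  apply hne
  rw [Subgroup.eq_bot_iff_forall]
  intro g hg
  obtain ⟨k, hk⟩ := hP ⟨g, hg⟩
  refine eq_one_of_fix_pair hF (congrArg Subtype.val hk) (hfv g hg) (hfu g hg)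
    (fun x => ⟨herm q v x / herm q v v, herm q (u : Fin 3 → F) x / herm q (u : Fin 3 → F) u, ?_, ?_⟩) ?_
  · simp [hvu, hvv]
  · simp [huv, huu]
  · rintro ⟨a, b⟩
    exact ⟨(a / herm q v v) • v + (b / herm q (u : Fin 3 → F) u) • (u : Fin 3 → F), by simp [hvv, hvu, huv, huu]⟩

/-- The unipotent radical of the stabiliser of an isotropic point. -/
def radical (v : Fin 3 → F) : Subgroup (Cfsg.SU 3 F q) where
  carrier := {g | act g v = v ∧ ∀ w, herm q v w = 0 → ∃ a : F, act g w = w + a • v}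
  one_mem' := ⟨act_one v, fun w _ => ⟨0, by simp [act_one]⟩⟩
  mul_mem' := by
    rintro g h ⟨g1, g2⟩ ⟨h1, h2⟩
    refine ⟨by rw [act_mul, h1, g1], fun w hw => ?_⟩
    obtain ⟨a, ha⟩ := h2 w hw
    obtain ⟨b, hb⟩ := g2 w hw
    exact ⟨b + a, by rw [act_mul, ha, act_add, act_smul, g1, hb, add_assoc, ← add_smul]⟩
  inv_mem' := by
    rintro g ⟨g1, g2⟩
    have hinv : act g⁻¹ v = v := by
      conv_lhs => rw [← g1]
      rw [← act_mul, inv_mul_cancel, act_one]
    refine ⟨hinv, fun w hw => ?_⟩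
    have hw' : herm q v (act g⁻¹ w) = 0 := by
      have := herm_act g⁻¹ w v
      rw [hinv] at this
      exact this.trans hw
    obtain ⟨a, ha⟩ := g2 _ hw'
    rw [← act_mul, mul_inv_cancel, act_one] at ha
    exact ⟨-a, by rw [neg_smul, ← sub_eq_add_neg, eq_sub_iff_add_eq]; exact ha.symm⟩

theorem isPGroup_radical (hp : p ≠ 2) (v : Fin 3 → F) : IsPGroup p (radical (F := F) (q := q) v) := by
  rintro ⟨g, g1, g2⟩
  refine ⟨1, Subtype.ext ?_⟩
  have h3 : 3 ≤ p := by have := (Fact.out : p.Prime).two_le; omega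
  have hcube : ((g.1.1 : Matrix (Fin 3) (Fin 3) F) - 1) ^ 3 = 0 := by
    refine Matrix.ext_iff_mulVec.2 fun x => ?_
    have hd : ∀ y, ((g.1.1 : Matrix (Fin 3) (Fin 3) F) - 1) *ᵥ y = act g y - y := fun y => by
      simp [act, Matrix.sub_mulVec]
    rw [show ((g.1.1 : Matrix (Fin 3) (Fin 3) F) - 1) ^ 3 = ((g.1.1 : Matrix (Fin 3) (Fin 3) F) - 1) *
      (((g.1.1 : Matrix (Fin 3) (Fin 3) F) - 1) * ((g.1.1 : Matrix (Fin 3) (Fin 3) F) - 1)) by
        rw [pow_succ', pow_two], ← Matrix.mulVec_mulVec, ← Matrix.mulVec_mulVec, Matrix.zero_mulVec, hd x]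
    have hy : herm q v (act g x - x) = 0 := by
      have := herm_act g x v
      rw [g1] at this
      rw [map_sub, this, sub_self]
    obtain ⟨a, ha⟩ := g2 _ hy
    rw [hd (act g x - x), ha, add_sub_cancel_left, hd, act_smul, g1, sub_self]
  rw [pow_one, Subgroup.coe_pow, Subgroup.coe_one]
  apply Subtype.ext; apply Subtype.ext
  rw [Subgroup.coe_pow, Matrix.SpecialLinearGroup.coe_pow]
  have h : (g.1.1 : Matrix (Fin 3) (Fin 3) F) = 1 + ((g.1.1 : Matrix (Fin 3) (Fin 3) F) - 1) := by abel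
  rw [h, add_pow_char_of_commute p (Commute.one_left _), one_pow, pow_eq_zero_of_le h3 hcube, add_zero]
  simp

/-- A nontrivial Sylow subgroup is the radical of each isotropic vector it fixes. -/
theorem sylow_eq_radical (hp : p ≠ 2) (S : Sylow p (Cfsg.SU 3 F q)) {v : Fin 3 → F} (hv0 : v ≠ 0)
    (hvv : herm q v v = 0) (hfix : ∀ g ∈ S, act g v = v) :
    (S : Subgroup (Cfsg.SU 3 F q)) = radical v := by
  refine (S.is_maximal' (isPGroup_radical hF hp v) ?_).symm
  intro g hg
  refine ⟨hfix g hg, fun w hw => ?_⟩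
  obtain ⟨k, hk⟩ := S.2 ⟨g, hg⟩
  by_cases hwv : ∃ a : F, w = a • v
  · obtain ⟨a, rfl⟩ := hwv
    exact ⟨0, by rw [act_smul, hfix g hg, zero_smul, add_zero]⟩
  push Not at hwv
  have hli : LinearIndependent F ![v, w] := by
    rw [LinearIndependent.pair_iff' hv0]
    exact fun a => (hwv a).symm
  have hle : Submodule.span F (Set.range ![v, w]) ≤ LinearMap.ker (herm q v) := by
    rw [Submodule.span_le, Matrix.range_cons, Matrix.range_cons, Matrix.range_empty, Set.union_empty]
    rintro x (rfl | rfl) <;> simpa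
  have heq := Submodule.eq_of_le_of_finrank_eq hle (by
    rw [finrank_span_eq_card hli, Fintype.card_fin, finrank_ker_herm hF hv0])
  have hgw : act g w ∈ Submodule.span F (Set.range ![v, w]) := by
    rw [heq, LinearMap.mem_ker]
    have := herm_act g w v
    rw [hfix g hg] at this
    exact this.trans hw
  obtain ⟨c, hc⟩ := (Submodule.mem_span_range_iff_exists_fun F).1 hgw
  rw [Fin.sum_univ_two] at hc
  simp only [Matrix.cons_val_zero, Matrix.cons_val_one] at hc
  have h1 : c 1 = 1 := unipotent_line (p := p) (congrArg Subtype.val hk) hwv (hfix g hg)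
    (show act g w = c 1 • w + c 0 • v by rw [← hc, add_comm])
  exact ⟨c 0, by rw [← hc, h1, one_smul, add_comm]⟩

/-- Nontrivial p-subgroups of SU₃ lie in one Sylow p-subgroup only. -/
theorem sylow_unique (hp : p ≠ 2) (P : Subgroup (Cfsg.SU 3 F q)) (hP : IsPGroup p P) (hne : P ≠ ⊥)
    (S T : Sylow p (Cfsg.SU 3 F q)) (hS : P ≤ S) (hT : P ≤ T) : S = T := by
  have hSne : (S : Subgroup (Cfsg.SU 3 F q)) ≠ ⊥ := fun h => hne (le_bot_iff.1 (h ▸ hS))
  have hTne : (T : Subgroup (Cfsg.SU 3 F q)) ≠ ⊥ := fun h => hne (le_bot_iff.1 (h ▸ hT))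
  obtain ⟨v, hv0, hvv, hfv⟩ := exists_isotropic_fixed hF (S : Subgroup _) S.2 hSne
  obtain ⟨u, hu0, huu, hfu⟩ := exists_isotropic_fixed hF (T : Subgroup _) T.2 hTne
  obtain ⟨⟨g, hg⟩, hg1'⟩ := Subgroup.ne_bot_iff_exists_ne_one.1 hne
  have hg1 : g ≠ 1 := fun e => hg1' (Subtype.ext e)
  obtain ⟨k, hk⟩ := hP ⟨g, hg⟩
  obtain ⟨c, hc⟩ : ∃ c : F, u = c • v := by
    by_contra h
    push Not at h
    exact hg1 (eq_one_of_fix_isotropic hF (congrArg Subtype.val hk) hv0 hvv huu h (hfv g (hS hg)) (hfu g (hT hg)))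
  have hc0 : c ≠ 0 := fun h => hu0 (by rw [hc, h, zero_smul])
  apply Sylow.ext
  rw [sylow_eq_radical hF hp S hv0 hvv hfv, sylow_eq_radical hF hp T hv0 hvv (fun x hx => by
    have := hfu x hx
    rw [hc, act_smul] at this
    exact smul_right_injective _ hc0 this)]

end Cfsg.Agent.Lib.QdP.Unitary
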