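import Mathlib
import Cfsg.Prelude.Def_PLocal
import Cfsg.Prelude.Def_LocalEven

/-! Groups all of whose p-subgroups are abelian do not involve Qd(p). -/

set_option autoImplicit false

namespace Cfsg.Agent.Lib.QdP

open Matrix

/-- The upper unitriangular part of Qd(p). -/
def uniUpper (p : ℕ) : Subgroup (Matrix.SpecialLinearGroup (Fin 3) (ZMod p)) where
  carrier := {M | M.1 1 0 = 0 ∧ M.1 2 0 = 0 ∧ M.1 2 1 = 0 ∧ M.1 0 0 = 1 ∧ M.1 1 1 = 1 ∧ M.1 2 2 = 1}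
  one_mem' := by simp
  mul_mem' {a b} := by
    rintro ⟨a1, a2, a3, a4, a5, a6⟩ ⟨b1, b2, b3, b4, b5, b6⟩
    simp [Matrix.mul_apply, Fin.sum_univ_three, a1, a2, a3, a4, a5, a6, b1, b2, b3, b4, b5, b6]
  inv_mem' {a} := by
    rintro ⟨a1, a2, a3, a4, a5, a6⟩
    simp [Matrix.SpecialLinearGroup.coe_inv, Matrix.adjugate_fin_three, a1, a2, a3, a4, a5, a6]

variable {p : ℕ} [Fact p.Prime]

theorem uniUpper_pow_eq_one (hp : p ≠ 2) {M : Matrix.SpecialLinearGroup (Fin 3) (ZMod p)}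
    (hM : M ∈ uniUpper p) : M ^ p = 1 := by
  obtain ⟨a1, a2, a3, a4, a5, a6⟩ := hM
  have h3 : 3 ≤ p := by
    have := (Fact.out : p.Prime).two_le
    omega
  have hN : (M.1 - 1) ^ 3 = 0 := by
    ext i j
    fin_cases i <;> fin_cases j <;>
      simp [pow_succ, Matrix.mul_apply, Fin.sum_univ_three, a1, a2, a3, a4, a5, a6]
  apply Subtype.ext
  rw [Matrix.SpecialLinearGroup.coe_pow, Matrix.SpecialLinearGroup.coe_one]
  have h : M.1 = 1 + (M.1 - 1) := by abel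
  rw [h, add_pow_char_of_commute p (Commute.one_left _), one_pow, pow_eq_zero_of_le h3 hN, add_zero]

theorem uniUpper_le_qd : uniUpper p ≤ Cfsg.qd p :=
  fun _ hM => Subgroup.subset_closure ⟨hM.2.1, hM.2.2.1, hM.2.2.2.2.2⟩

theorem isPGroup_uniUpper (hp : p ≠ 2) : IsPGroup p (uniUpper p) := fun M =>
  ⟨1, Subtype.ext (by simpa using uniUpper_pow_eq_one hp M.2)⟩

/-- Qd(p) has a non-abelian p-subgroup. -/
theorem exists_noncomm_pSubgroup_qd (hp : p ≠ 2) :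
    ∃ S : Subgroup (Cfsg.qd p), IsPGroup p S ∧ ∃ a ∈ S, ∃ b ∈ S, a * b ≠ b * a := by
  let a : Matrix.SpecialLinearGroup (Fin 3) (ZMod p) :=
    ⟨!![1, 1, 0; 0, 1, 0; 0, 0, 1], by simp [Matrix.det_fin_three]⟩
  let b : Matrix.SpecialLinearGroup (Fin 3) (ZMod p) :=
    ⟨!![1, 0, 0; 0, 1, 1; 0, 0, 1], by simp [Matrix.det_fin_three]⟩
  have ha : a ∈ uniUpper p := by
    change _ ∧ _
    simp [a]
  have hb : b ∈ uniUpper p := by
    change _ ∧ _
    simp [b]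
  refine ⟨(uniUpper p).subgroupOf (Cfsg.qd p),
    (isPGroup_uniUpper hp).of_equiv (Subgroup.subgroupOfEquivOfLe uniUpper_le_qd).symm,
    ⟨a, uniUpper_le_qd ha⟩, ha, ⟨b, uniUpper_le_qd hb⟩, hb, fun h => ?_⟩
  have hv := congrArg Subtype.val h
  simp only [Subgroup.coe_mul] at hv
  have := congrArg (fun x : Matrix.SpecialLinearGroup (Fin 3) (ZMod p) => x.1 0 2) hv
  rw [Matrix.SpecialLinearGroup.coe_mul, Matrix.SpecialLinearGroup.coe_mul] at this
  simp [a, b, Matrix.mul_apply, Fin.sum_univ_three] at this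

/-- If every p-subgroup of a finite group is abelian (p odd), it does not involve Qd(p). -/
theorem not_involves_qd_of_comm {G : Type*} [Group G] [Finite G] (hp : p ≠ 2)
    (h : ∀ P : Subgroup G, IsPGroup p P → ∀ a ∈ P, ∀ b ∈ P, a * b = b * a) :
    ¬ Cfsg.Involves (Cfsg.qd p) G := by
  rintro ⟨K, R, hR, ⟨e⟩⟩
  obtain ⟨S, hS, a, ha, b, hb, hab⟩ := exists_noncomm_pSubgroup_qd (p := p) hp
  haveI := hR
  let f : K →* Cfsg.qd p := e.toMonoidHom.comp (QuotientGroup.mk' (R.subgroupOf K))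
  have hf : Function.Surjective f := e.surjective.comp (QuotientGroup.mk'_surjective _)
  obtain ⟨T, hST⟩ := hS.exists_le_sylow
  obtain ⟨P, hP⟩ := Sylow.mapSurjective_surjective hf p T
  have hT : ∀ x ∈ T, ∃ y ∈ (P : Subgroup K), f y = x := by
    intro x hx
    rw [← hP] at hx
    exact hx
  obtain ⟨x, hx, rfl⟩ := hT a (hST ha)
  obtain ⟨y, hy, rfl⟩ := hT b (hST hb)
  refine hab ?_
  rw [← map_mul, ← map_mul]
  congr 1
  apply Subtype.ext
  exact h ((P : Subgroup K).map K.subtype) (P.2.map _) _ ⟨x, hx, rfl⟩ _ ⟨y, hy, rfl⟩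

end Cfsg.Agent.Lib.QdP
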