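import Mathlib
import Cfsg.Prelude.Def_PLocal
import Cfsg.Prelude.Def_LocalEven
import Cfsg.Agent.Lib.QdP.Involves

/-! Groups in which each nontrivial p-subgroup lies in a unique Sylow subgroup do not involve Qd(p). -/

set_option autoImplicit false

namespace Cfsg.Agent.Lib.QdP

open Matrix

variable {p : ℕ} [Fact p.Prime]

theorem qd_row (M : Matrix.SpecialLinearGroup (Fin 3) (ZMod p)) (hM : M ∈ Cfsg.qd p) :
    M.1 2 0 = 0 ∧ M.1 2 1 = 0 ∧ M.1 2 2 = 1 := by
  induction hM using Subgroup.closure_induction with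
  | mem x hx => exact hx
  | one => simp
  | mul x y _ _ hx hy =>
    obtain ⟨x0, x1, x2⟩ := hx
    obtain ⟨y0, y1, y2⟩ := hy
    simp [Matrix.mul_apply, Fin.sum_univ_three, x0, x1, x2, y0, y1, y2]
  | inv x _ hx =>
    obtain ⟨x0, x1, x2⟩ := hx
    have hd := x.2
    rw [Matrix.det_fin_three] at hd
    simp [x0, x1, x2] at hd
    simp [Matrix.SpecialLinearGroup.coe_inv, Matrix.adjugate_fin_three, x0, x1, x2]
    linear_combination hd

/-- The translation subgroup of Qd(p). -/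
def transPart (p : ℕ) [Fact p.Prime] : Subgroup (Cfsg.qd p) where
  carrier := {M | M.1.1 0 0 = 1 ∧ M.1.1 0 1 = 0 ∧ M.1.1 1 0 = 0 ∧ M.1.1 1 1 = 1}
  one_mem' := by simp
  mul_mem' {a b} := by
    rintro ⟨a1, a2, a3, a4⟩ ⟨b1, b2, b3, b4⟩
    obtain ⟨r0, r1, r2⟩ := qd_row b.1 b.2
    simp [Matrix.mul_apply, Fin.sum_univ_three, a1, a2, a3, a4, b1, b2, b3, b4, r0, r1]
  inv_mem' {a} := by
    rintro ⟨a1, a2, a3, a4⟩
    obtain ⟨r0, r1, r2⟩ := qd_row a.1 a.2
    simp [Matrix.SpecialLinearGroup.coe_inv, Matrix.adjugate_fin_three, a1, a2, a3, a4, r0, r1, r2]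

theorem transPart_le_uniUpper : (transPart p).map (Cfsg.qd p).subtype ≤ uniUpper p := by
  rintro _ ⟨M, ⟨a1, a2, a3, a4⟩, rfl⟩
  obtain ⟨r0, r1, r2⟩ := qd_row M.1 M.2
  exact ⟨a3, r0, r1, a1, a4, r2⟩

theorem isPGroup_transPart (hp : p ≠ 2) : IsPGroup p (transPart p) :=
  ((isPGroup_uniUpper hp).to_le transPart_le_uniUpper).of_equiv
    ((transPart p).equivMapOfInjective _ (Cfsg.qd p).subtype_injective).symm

theorem transPart_normal : (transPart p).Normal := by
  refine ⟨fun T hT M => ?_⟩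
  obtain ⟨a1, a2, a3, a4⟩ := hT
  obtain ⟨r0, r1, r2⟩ := qd_row M.1 M.2
  obtain ⟨t0, t1, t2⟩ := qd_row T.1 T.2
  let T' : Matrix.SpecialLinearGroup (Fin 3) (ZMod p) :=
    ⟨!![1, 0, M.1.1 0 0 * T.1.1 0 2 + M.1.1 0 1 * T.1.1 1 2;
        0, 1, M.1.1 1 0 * T.1.1 0 2 + M.1.1 1 1 * T.1.1 1 2;
        0, 0, 1], by simp [Matrix.det_fin_three]⟩
  have e : M.1 * T.1 = T' * M.1 := by
    apply Subtype.ext
    rw [Matrix.SpecialLinearGroup.coe_mul, Matrix.SpecialLinearGroup.coe_mul]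
    ext i j
    fin_cases i <;> fin_cases j <;>
      simp [T', Matrix.mul_apply, Fin.sum_univ_three, a1, a2, a3, a4, r0, r1, r2, t0, t1, t2] <;> ring
  change (M.1 * T.1 * M.1⁻¹).1 0 0 = 1 ∧ (M.1 * T.1 * M.1⁻¹).1 0 1 = 0 ∧
    (M.1 * T.1 * M.1⁻¹).1 1 0 = 0 ∧ (M.1 * T.1 * M.1⁻¹).1 1 1 = 1
  rw [e, mul_inv_cancel_right]
  simp [T']

theorem transPart_ne_bot : transPart p ≠ ⊥ := by
  let v : Matrix.SpecialLinearGroup (Fin 3) (ZMod p) :=
    ⟨!![1, 0, 1; 0, 1, 0; 0, 0, 1], by simp [Matrix.det_fin_three]⟩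
  have hv : v ∈ Cfsg.qd p := Subgroup.subset_closure ⟨by simp [v], by simp [v], by simp [v]⟩
  intro h
  have hmem : (⟨v, hv⟩ : Cfsg.qd p) ∈ transPart p := by
    change _ ∧ _
    simp [v]
  rw [h, Subgroup.mem_bot] at hmem
  have := congrArg (fun x : Cfsg.qd p => x.1.1 0 2) hmem
  simp [v] at this

/-- Qd(p) has two p-elements not in a common p-subgroup. -/
theorem exists_two_pElements (hp : p ≠ 2) : ∃ a c : Cfsg.qd p,
    (∃ P : Subgroup (Cfsg.qd p), IsPGroup p P ∧ a ∈ P) ∧ (∃ P : Subgroup (Cfsg.qd p), IsPGroup p P ∧ c ∈ P) ∧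
      ∀ P : Subgroup (Cfsg.qd p), IsPGroup p P → a ∈ P → c ∈ P → False := by
  let am : Matrix.SpecialLinearGroup (Fin 3) (ZMod p) :=
    ⟨!![1, 1, 0; 0, 1, 0; 0, 0, 1], by simp [Matrix.det_fin_three]⟩
  let cm : Matrix.SpecialLinearGroup (Fin 3) (ZMod p) :=
    ⟨!![1, 0, 0; 1, 1, 0; 0, 0, 1], by simp [Matrix.det_fin_three]⟩
  have ham : am ∈ Cfsg.qd p := Subgroup.subset_closure ⟨by simp [am], by simp [am], by simp [am]⟩
  have hcm : cm ∈ Cfsg.qd p := Subgroup.subset_closure ⟨by simp [cm], by simp [cm], by simp [cm]⟩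
  have h3 : 3 ≤ p := by have := (Fact.out : p.Prime).two_le; omega
  have hord : ∀ (M : Matrix.SpecialLinearGroup (Fin 3) (ZMod p)) (hM : M ∈ Cfsg.qd p), (M.1 - 1) ^ 3 = 0 →
      ∃ P : Subgroup (Cfsg.qd p), IsPGroup p P ∧ (⟨M, hM⟩ : Cfsg.qd p) ∈ P := by
    intro M hM hN
    refine ⟨Subgroup.zpowers ⟨M, hM⟩, ?_, Subgroup.mem_zpowers _⟩
    have hpow : (⟨M, hM⟩ : Cfsg.qd p) ^ p = 1 := by
      apply Subtype.ext
      apply Subtype.ext
      rw [Subgroup.coe_pow, Matrix.SpecialLinearGroup.coe_pow, Subgroup.coe_one, Matrix.SpecialLinearGroup.coe_one]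
      have h : M.1 = 1 + (M.1 - 1) := by abel
      rw [h, add_pow_char_of_commute p (Commute.one_left _), one_pow, pow_eq_zero_of_le h3 hN, add_zero]
    obtain ⟨i, -, hi⟩ := (Nat.dvd_prime_pow (Fact.out : p.Prime)).1
      (show orderOf (⟨M, hM⟩ : Cfsg.qd p) ∣ p ^ 1 by rw [pow_one]; exact orderOf_dvd_of_pow_eq_one hpow)
    exact IsPGroup.of_card (n := i) (by rw [Nat.card_zpowers, hi])
  refine ⟨⟨am, ham⟩, ⟨cm, hcm⟩, hord am ham ?_, hord cm hcm ?_, ?_⟩
  · ext i j
    fin_cases i <;> fin_cases j <;> simp [am, pow_succ, Matrix.mul_apply, Fin.sum_univ_three]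
  · ext i j
    fin_cases i <;> fin_cases j <;> simp [cm, pow_succ, Matrix.mul_apply, Fin.sum_univ_three]
  · intro P hP ha hc
    obtain ⟨k, hk⟩ := hP ⟨_, mul_mem ha hc⟩
    have hk' : (am * cm).1 ^ p ^ k = 1 := by
      have := congrArg (fun x : P => x.1.1.1) hk
      simpa using this
    have hnil : IsNilpotent ((am * cm).1 - 1) := by
      refine ⟨p ^ k, ?_⟩
      have := add_pow_char_pow_of_commute (p := p) (n := k) (Commute.one_left ((am * cm).1 - 1))
      rw [add_sub_cancel, one_pow, hk'] at this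
      exact (add_eq_left.1 this.symm)
    have htr := (Matrix.isNilpotent_trace_of_isNilpotent hnil).eq_zero
    have he : (am * cm).1 = !![2, 1, 0; 1, 1, 0; 0, 0, 1] := by
      rw [Matrix.SpecialLinearGroup.coe_mul]
      ext i j
      fin_cases i <;> fin_cases j <;>
        simp [am, cm, Matrix.mul_apply, Fin.sum_univ_three, Matrix.vecHead, Matrix.vecTail] <;> norm_num
    rw [he, Matrix.trace_sub, Matrix.trace_one, Matrix.trace_fin_three] at htr
    simp only [Fintype.card_fin, Matrix.of_apply, Matrix.cons_val', Matrix.cons_val_zero, Matrix.cons_val_one, Matrix.cons_val, Matrix.cons_val_fin_one, Matrix.empty_val'] at htr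
    exact one_ne_zero (α := ZMod p) (by push_cast at htr; linear_combination htr)

/-- If each nontrivial p-subgroup lies in one Sylow subgroup, Qd(p) is not involved (p odd). -/
theorem not_involves_qd_of_ti {G : Type*} [Group G] [Finite G] (hp : p ≠ 2)
    (hTI : ∀ P : Subgroup G, IsPGroup p P → P ≠ ⊥ → ∀ S T : Sylow p G, P ≤ S → P ≤ T → S = T) :
    ¬ Cfsg.Involves (Cfsg.qd p) G := by
  rintro ⟨K, R, hR, ⟨e⟩⟩
  haveI := hR
  let f : K →* Cfsg.qd p := e.toMonoidHom.comp (QuotientGroup.mk' (R.subgroupOf K))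
  have hf : Function.Surjective f := e.surjective.comp (QuotientGroup.mk'_surjective _)
  haveI := transPart_normal (p := p)
  let W : Subgroup K := (transPart p).comap f
  haveI : W.Normal := Subgroup.Normal.comap inferInstance f
  obtain ⟨SV⟩ : Nonempty (Sylow p W) := inferInstance
  let fW : W →* transPart p := (f.comp W.subtype).codRestrict _ (fun w => w.2)
  have hfW : Function.Surjective fW := by
    rintro ⟨v, hv⟩
    obtain ⟨k, rfl⟩ := hf v
    exact ⟨⟨k, hv⟩, rfl⟩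
  let S' : Subgroup K := (SV : Subgroup W).map W.subtype
  have himg : ∀ v ∈ transPart p, ∃ s ∈ S', f s = v := by
    intro v hv
    have h2 : ((SV.mapSurjective hfW : Sylow p (transPart p)) : Subgroup (transPart p)) = ⊤ :=
      ((SV.mapSurjective hfW : Sylow p (transPart p)).is_maximal'
        ((isPGroup_transPart hp).of_equiv Subgroup.topEquiv.symm) le_top).symm
    have : (⟨v, hv⟩ : transPart p) ∈ ((SV.mapSurjective hfW : Sylow p (transPart p)) : Subgroup (transPart p)) := by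
      rw [h2]; trivial
    obtain ⟨w, hw, hwv⟩ := this
    exact ⟨w, ⟨w, hw, rfl⟩, congrArg Subtype.val hwv⟩
  have hN : ∀ q : Cfsg.qd p, ∃ n ∈ Subgroup.normalizer (S' : Set K), f n = q := by
    intro q
    obtain ⟨k, rfl⟩ := hf q
    have hk : k ∈ Subgroup.normalizer (S' : Set K) ⊔ W := by
      rw [Sylow.normalizer_sup_eq_top SV]; trivial
    rw [Subgroup.mem_sup_of_normal_right] at hk
    obtain ⟨n, hn, w, hw, rfl⟩ := hk
    obtain ⟨s, hs, hsw⟩ := himg _ hw
    exact ⟨n * s, mul_mem hn (Subgroup.le_normalizer hs), by rw [map_mul, map_mul, hsw]⟩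
  let S'G : Subgroup G := S'.map K.subtype
  have hS'p : IsPGroup p S'G := (SV.2.map _).map _
  have hS'ne : S'G ≠ ⊥ := by
    obtain ⟨⟨v, hv⟩, hv1'⟩ := Subgroup.ne_bot_iff_exists_ne_one.1 (transPart_ne_bot (p := p))
    have hv1 : v ≠ 1 := fun e => hv1' (Subtype.ext e)
    obtain ⟨s, hs, hsv⟩ := himg v hv
    intro hb
    have : (K.subtype s) ∈ S'G := ⟨s, hs, rfl⟩
    rw [hb, Subgroup.mem_bot] at this
    exact hv1 (by rw [← hsv, show s = 1 from Subtype.ext this, map_one])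
  obtain ⟨S, hS⟩ := hS'p.exists_le_sylow
  have hnorm : ∀ n ∈ Subgroup.normalizer (S' : Set K), (n : G) ∈ Subgroup.normalizer ((S : Subgroup G) : Set G) := by
    intro n hn
    refine Sylow.smul_eq_iff_mem_normalizer.mp ?_
    refine (hTI S'G hS'p hS'ne _ _ ?_ hS)
    rintro _ ⟨s, hs, rfl⟩
    refine ⟨((n⁻¹ * s * n : K) : G), hS ⟨n⁻¹ * s * n, ?_, rfl⟩, ?_⟩
    · have := (Subgroup.mem_normalizer_iff.1 (inv_mem hn) s).1 hs
      rwa [inv_inv] at this
    · simp [mul_assoc]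
  let N : Subgroup K := Subgroup.normalizer (S' : Set K)
  let fN : N →* Cfsg.qd p := f.comp N.subtype
  have hfN : Function.Surjective fN := fun q => by
    obtain ⟨n, hn, e⟩ := hN q
    exact ⟨⟨n, hn⟩, e⟩
  let T : Subgroup N := (S : Subgroup G).comap (K.subtype.comp N.subtype)
  have hTp : IsPGroup p T := S.2.comap_of_injective _ (K.subtype_injective.comp N.subtype_injective)
  have hall : ∀ P : Subgroup N, IsPGroup p P → P ≤ T := by
    intro P hP x hx
    have hPG : IsPGroup p (P.map (K.subtype.comp N.subtype)) := hP.map _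
    have hle : P.map (K.subtype.comp N.subtype) ≤ Subgroup.normalizer ((S : Subgroup G) : Set G) := by
      rintro _ ⟨y, -, rfl⟩
      exact hnorm y.1 y.2
    have := S.is_maximal' (IsPGroup.to_sup_of_normal_right' hPG S.2 hle) le_sup_right
    show K.subtype (N.subtype x) ∈ (S : Subgroup G)
    rw [← this]
    exact Subgroup.mem_sup_left ⟨x, hx, rfl⟩
  obtain ⟨a, c, ⟨Pa, hPa, haPa⟩, ⟨Pc, hPc, hcPc⟩, hno⟩ := exists_two_pElements (p := p) hp
  have hlift : ∀ x : Cfsg.qd p, ∀ P : Subgroup (Cfsg.qd p), IsPGroup p P → x ∈ P → x ∈ T.map fN := by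
    intro x P hP hx
    obtain ⟨Q, hQ⟩ := hP.exists_le_sylow
    obtain ⟨Q', hQ'⟩ := Sylow.mapSurjective_surjective hfN p Q
    have hxQ := hQ hx
    rw [← hQ'] at hxQ
    obtain ⟨y, hy, rfl⟩ := hxQ
    exact ⟨y, hall _ Q'.2 hy, rfl⟩
  exact hno _ (hTp.map fN) (hlift a Pa hPa haPa) (hlift c Pc hPc hcPc)

/-- Involvement in a quotient implies involvement in the group. -/
theorem involves_of_quotient {H : Type*} [Group H] {G : Type*} [Group G] {G' : Type*} [Group G']
    (π : G →* G') (hπ : Function.Surjective π) (h : Cfsg.Involves H G') : Cfsg.Involves H G := by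
  obtain ⟨K, R, hR, ⟨e⟩⟩ := h
  haveI := hR
  let φ : K.comap π →* H :=
    e.toMonoidHom.comp ((QuotientGroup.mk' (R.subgroupOf K)).comp
      ((π.comp (K.comap π).subtype).codRestrict K fun x => x.2))
  have hφ : Function.Surjective φ := by
    intro y
    obtain ⟨z, rfl⟩ := e.surjective y
    obtain ⟨⟨k, hk⟩, rfl⟩ := QuotientGroup.mk'_surjective _ z
    obtain ⟨g, rfl⟩ := hπ k
    exact ⟨⟨g, hk⟩, rfl⟩
  have hker : (R.comap π).subgroupOf (K.comap π) = φ.ker := by
    ext x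
    simp only [φ, MonoidHom.mem_ker, MonoidHom.coe_comp, Function.comp_apply, MulEquiv.coe_toMonoidHom,
      MulEquiv.map_eq_one_iff, QuotientGroup.mk'_apply, QuotientGroup.eq_one_iff, Subgroup.mem_subgroupOf,
      Subgroup.mem_comap]
    rfl
  refine ⟨K.comap π, R.comap π, hker ▸ φ.normal_ker, ⟨?_⟩⟩
  haveI : ((R.comap π).subgroupOf (K.comap π)).Normal := hker ▸ φ.normal_ker
  exact (QuotientGroup.quotientMulEquivOfEq hker).trans (QuotientGroup.quotientKerEquivOfSurjective φ hφ)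

end Cfsg.Agent.Lib.QdP
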